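import Cfsg.Agent.Lib.Classical.UnitarySimple
import Cfsg.Agent.Lib.Classical.UnitaryCount
import Cfsg.Agent.Lib.Classical.UnitaryFrames
import Cfsg.Agent.SimpleFacts.UnitaryThreeSections

/-!
# The Borel subgroup of `SU₃(3)` and the action on the 28 isotropic points
-/

set_option autoImplicit false

namespace Cfsg.Agent.UnitaryDegrees

open Matrix Cfsg.Agent.Forms Cfsg.Agent.Classical Cfsg.Agent.Classical.Unitary

universe u

variable {F : Type u} [Field F] [Fintype F] (hF : Fintype.card F = 3 ^ 2)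

local notation "Vec" => (Fin 3 → F)
local notation "H" => Cfsg.hermForm 3 F 3
local notation "G" => Cfsg.SU 3 F 3

/-- A hyperbolic pair of isotropic vectors together with the first point. -/
structure Frame (F : Type u) [Field F] where
  e : Fin 3 → F
  f : Fin 3 → F
  e_ne : e ≠ 0
  e_iso : Cfsg.hermForm 3 F 3 e e = 0
  f_iso : Cfsg.hermForm 3 F 3 f f = 0
  e_f : Cfsg.hermForm 3 F 3 e f = 1

include hF in
theorem exists_frame : Nonempty (Frame F) := by
  obtain ⟨c, hc⟩ : ∃ c : F, c ^ (3 + 1) = -1 :=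
    UnitaryCount.exists_norm_eq hF (by simp) (by
      simp [Odd.neg_one_pow (show Odd 3 by decide)])
  let e : Vec := ![1, c, 0]
  have he : e ≠ 0 := fun h => one_ne_zero (congrFun h 0)
  have hee : H e e = 0 := by
    simp only [Cfsg.hermForm, Fin.sum_univ_three, e, Matrix.cons_val_zero, Matrix.cons_val_one,
      Matrix.cons_val, one_pow, one_mul, zero_mul, add_zero]
    rw [← pow_succ', hc, add_neg_cancel]
  obtain ⟨f, hff, hef⟩ := exists_partner hF he hee
  exact ⟨⟨e, f, he, hee, hff, hef⟩⟩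

include hF in
theorem pow_eight {a : F} (ha : a ≠ 0) : a ^ 8 = 1 := by
  have := FiniteField.pow_card_sub_one_eq_one a ha
  rwa [hF] at this

variable (d : Frame F)

/-- The base point. -/
noncomputable def pt0 : IsoPt F 3 3 := pt d.e d.e_ne d.e_iso

/-- The Borel subgroup: the stabiliser of the base point. -/
noncomputable def borel : Subgroup G := MulAction.stabilizer G (pt0 d)

theorem exists_coef (g : borel d) : ∃ a : Fˣ, mat (g : G) *ᵥ d.e = (a : F) • d.e := by
  have h : (g : G) • pt0 d = pt0 d := g.2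
  rw [pt0, smul_pt] at h
  obtain ⟨a, ha⟩ := pt_eq_pt.mp h
  have ha0 : a ≠ 0 := fun h0 => mat_mulVec_ne_zero (g : G) d.e_ne (by rw [← ha, h0, zero_smul])
  exact ⟨Units.mk0 a ha0, ha.symm⟩

/-- The scalar on the base vector. -/
noncomputable def coef : borel d →* Fˣ where
  toFun g := (exists_coef d g).choose
  map_one' := by
    apply Units.ext
    apply smul_left_injective F d.e_ne
    show (((exists_coef d 1).choose : Fˣ) : F) • d.e = ((1 : Fˣ) : F) • d.e
    rw [← (exists_coef d 1).choose_spec, Units.val_one, one_smul, OneMemClass.coe_one, mat_one,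
      one_mulVec]
  map_mul' g h := by
    apply Units.ext
    apply smul_left_injective F d.e_ne
    have key : ∀ a b c : Fˣ, mat (g : G) *ᵥ d.e = (a : F) • d.e →
        mat (h : G) *ᵥ d.e = (b : F) • d.e → mat ((g * h : borel d) : G) *ᵥ d.e = (c : F) • d.e →
        (c : F) • d.e = ((a * b : Fˣ) : F) • d.e := by
      intro a b c ha hb hc
      rw [← hc, Subgroup.coe_mul, mul_mulVec, hb, Matrix.mulVec_smul, ha, smul_smul, Units.val_mul,
        mul_comm]
    exact key _ _ _ (exists_coef d g).choose_spec (exists_coef d h).choose_spec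
      (exists_coef d (g * h)).choose_spec

theorem coef_spec (g : borel d) : mat (g : G) *ᵥ d.e = ((coef d g : Fˣ) : F) • d.e :=
  (exists_coef d g).choose_spec

theorem coef_eq (g : borel d) {a : F} (h : mat (g : G) *ᵥ d.e = a • d.e) :
    ((coef d g : Fˣ) : F) = a :=
  smul_left_injective F d.e_ne ((coef_spec d g).symm.trans h)

theorem mem_borel {g : G} {a : F} (h : mat g *ᵥ d.e = a • d.e) : g ∈ borel d := by
  show g • pt0 d = pt0 d
  rw [pt0, smul_pt]
  exact pt_eq_pt.mpr ⟨a, h.symm⟩

include hF in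
/-- A diagonal element on a hyperbolic pair with prescribed first scalar. -/
theorem exists_torus {e v : Vec} (hee : H e e = 0) (hvv : H v v = 0) (hev : H e v = 1) {a : F}
    (ha : a ≠ 0) : ∃ g : G, mat g *ᵥ e = a • e ∧ mat g *ᵥ v = (a ^ 3)⁻¹ • v := by
  obtain ⟨⟨w, hwe, hwv, hww⟩, -⟩ := exists_perp_pair hF (le_refl 3) hee hvv hev
  have hve : H v e = 1 := by rw [← H_conj hF, hev, one_pow]
  have he : e ≠ 0 := fun h => by rw [h, H_zero_left] at hev; exact zero_ne_one hev
  have hli : ∀ x y : F, x ≠ 0 → y ≠ 0 → LinearIndependent F ![x • e, y • v] := by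
    intro x y hx hy
    rw [LinearIndependent.pair_iff]
    intro s t hst
    have h1 := congrArg (fun z => H z e) hst
    have h2 := congrArg (fun z => H z v) hst
    simp only [smul_smul, H_add_left, H_smul_left, H_zero_left, hee, hve, hev, hvv] at h1 h2
    simp only [mul_zero, mul_one, zero_add, add_zero, mul_eq_zero] at h1 h2
    exact ⟨h2.resolve_right hx, h1.resolve_right hy⟩
  set b : F := (a ^ 3)⁻¹ with hb
  have hb0 : b ≠ 0 := inv_ne_zero (pow_ne_zero _ ha)
  have hab : a * b ^ 3 = 1 := by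
    rw [hb, inv_pow, ← pow_mul, mul_inv_eq_one₀ (pow_ne_zero _ ha)]
    have := pow_eight hF ha
    calc a = a * a ^ 8 := by rw [this, mul_one]
      _ = a ^ (3 * 3) := by ring
  obtain ⟨g, hge, hgv⟩ := exists_gu_map_pair hF
    (u := e) (v := v) (u' := a • e) (v' := b • v)
    (by simpa using hli 1 1 one_ne_zero one_ne_zero) (hli a b ha hb0)
    (by rw [UnitaryCount.hermForm_smul_smul, hee, mul_zero])
    (by rw [H_smul_left, H_smul_right, hev, mul_one, hab])
    (by rw [UnitaryCount.hermForm_smul_smul, hvv, mul_zero])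
  set δ : F := ((gmat g).det)⁻¹ with hδ
  have hδn : δ ^ (3 + 1) = 1 := by rw [hδ, inv_pow, HermStd.det_norm hF _ (GU_H g), inv_one]
  have hwv' : H v w = 0 := (H_eq_zero_comm hF).1 hwv
  have hwe' : H e w = 0 := (H_eq_zero_comm hF).1 hwe
  set R : Matrix (Fin 3) (Fin 3) F := Cfsg.unitaryTransvection 3 3 w (δ - 1) with hR
  have hRdet : R.det = δ := by
    rw [hR, Cfsg.unitaryTransvection, ← Matrix.smul_vecMulVec, Matrix.vecMulVec_eq Unit,
      Matrix.det_one_add_replicateCol_mul_replicateRow, dotProduct_comm, smul_dotProduct, ← H_eq_dot,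
      hww, smul_eq_mul, mul_one, add_sub_cancel]
  have hRx : ∀ x, R *ᵥ x = x + ((δ - 1) * H x w) • w := fun x =>
    HermStd.transvection_mulVec w x _
  have hd3 : (δ - 1) ^ 3 = δ ^ 3 - 1 := by
    rw [← HermStd.qHom_apply hF, map_sub, map_one, HermStd.qHom_apply]
  have hRpres : ∀ x y, H (R *ᵥ x) (R *ᵥ y) = H x y := by
    intro x y
    simp only [hRx, H_add_left, H_add_right hF, H_smul_left, H_smul_right, hww, mul_pow, hd3,
      H_conj hF]
    linear_combination (H x w * H w y) * hδn
  refine ⟨suMk (R * gmat g) (by rw [Matrix.det_mul, hRdet, hδ,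
    inv_mul_cancel₀ (det_ne_zero_of_preserves hF (GU_H g))]) (fun x y => by
    rw [← Matrix.mulVec_mulVec, ← Matrix.mulVec_mulVec, hRpres, GU_H g]), ?_, ?_⟩
  · rw [suMk_mulVec, ← Matrix.mulVec_mulVec, hge, hRx, H_smul_left, hwe']
    simp
  · rw [suMk_mulVec, ← Matrix.mulVec_mulVec, hgv, hRx, H_smul_left, hwv']
    simp

include hF in
theorem coef_surjective : Function.Surjective (coef d) := by
  intro a
  obtain ⟨g, hg, -⟩ := exists_torus hF d.e_iso d.f_iso d.e_f a.ne_zero
  exact ⟨⟨g, mem_borel d hg⟩, Units.ext (coef_eq d ⟨g, mem_borel d hg⟩ hg)⟩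

include hF in
theorem natCard_units : Nat.card Fˣ = 8 := by
  rw [natCard_units_F hF]

include hF in
/-- There are 28 isotropic points. -/
theorem natCard_isoPt : Nat.card (IsoPt F 3 3) = 28 := by
  classical
  let Φ : IsoPt F 3 3 × Fˣ → {v : Vec // v ≠ 0 ∧ H v v = 0} := fun x =>
    ⟨(x.2 : F) • x.1.1.rep, smul_ne_zero x.2.ne_zero x.1.1.rep_nonzero,
      by rw [UnitaryCount.hermForm_smul_smul, x.1.2, mul_zero]⟩
  have hbij : Function.Bijective Φ := by
    constructor
    · rintro ⟨p, a⟩ ⟨p', a'⟩ h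
      have h' : (a : F) • p.1.rep = (a' : F) • p'.1.rep := congrArg Subtype.val h
      have hpp : p = p' := by
        apply Subtype.ext
        rw [← Projectivization.mk_rep p.1, ← Projectivization.mk_rep p'.1,
          Projectivization.mk_eq_mk_iff']
        exact ⟨(a : F)⁻¹ * a', by rw [mul_smul, ← h', inv_smul_smul₀ a.ne_zero]⟩
      subst hpp
      rw [Units.ext (smul_left_injective F p.1.rep_nonzero h')]
    · rintro ⟨v, hv, hvv⟩
      obtain ⟨a, ha, hrep⟩ := rep_mk v hv
      refine ⟨(pt v hv hvv, Units.mk0 a⁻¹ (inv_ne_zero ha)), Subtype.ext ?_⟩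
      show a⁻¹ • (Projectivization.mk F v hv).rep = v
      rw [hrep, inv_smul_smul₀ ha]
  have h := Nat.card_eq_of_bijective Φ hbij
  rw [Nat.card_prod, natCard_units hF] at h
  have hc : Nat.card {v : Vec // H v v = 0} = 225 := by
    have := UnitaryCount.cnt_zero_eq (n := 3) hF
    simpa [UnitaryCount.cnt, show ¬ Even 3 by decide] using this
  have hsplit : Nat.card {v : Vec // v ≠ 0 ∧ H v v = 0} + 1 = 225 := by
    rw [← hc]
    simp only [Nat.card_eq_fintype_card, Fintype.card_subtype]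
    rw [show (Finset.univ.filter fun v : Vec => v ≠ 0 ∧ H v v = 0) =
      (Finset.univ.filter fun v : Vec => H v v = 0).erase 0 by ext v; simp,
      Finset.card_erase_add_one (by simp [H_zero_left])]
  omega

include hF in
theorem borel_index : (borel d).index = 28 := by
  have := su_isPretransitive (n := 3) hF
  rw [borel, MulAction.index_stabilizer_of_transitive, natCard_isoPt hF]

include hF in
/-- Two distinct points are not orthogonal. -/
theorem H_ne_zero {v : Vec} (hv : v ≠ 0) (hvv : H v v = 0)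
    (hne : pt v hv hvv ≠ pt0 d) : H d.e v ≠ 0 := by
  intro h
  obtain ⟨c, hc⟩ := SimpleFacts.UnitaryThreeSections.iso_orth_smul hF d.e_ne d.e_iso hvv
    ((H_eq_zero_comm hF).1 h)
  exact hne (pt_eq_pt.mpr ⟨c, hc.symm⟩)

include hF in
/-- The scalars of an element fixing two points. -/
theorem scalar_rel {v : Vec} (hv : v ≠ 0) (hvv : H v v = 0)
    (hne : pt v hv hvv ≠ pt0 d) {g : G} {a m : F} (hge : mat g *ᵥ d.e = a • d.e)
    (hgv : mat g *ᵥ v = m • v) : a * m ^ 3 = 1 := by
  have hev : H d.e v ≠ 0 := H_ne_zero hF d hv hvv hne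
  have h := SU_H g d.e v
  rw [hge, hgv, H_smul_left, H_smul_right, ← mul_assoc] at h
  exact mul_right_cancel₀ hev (h.trans (one_mul _).symm)

include hF in
/-- The stabiliser of two points induces all scalars on the first. -/
theorem exists_two_point {v : Vec} (hv : v ≠ 0) (hvv : H v v = 0)
    (hne : pt v hv hvv ≠ pt0 d) (a : Fˣ) :
    ∃ g : borel d, coef d g = a ∧ (g : G) • pt v hv hvv = pt v hv hvv := by
  have hev : H d.e v ≠ 0 := H_ne_zero hF d hv hvv hne
  set c : F := ((H d.e v)⁻¹) ^ 3 with hc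
  have hc0 : c ≠ 0 := pow_ne_zero _ (inv_ne_zero hev)
  have hcv : H (c • v) (c • v) = 0 := by rw [UnitaryCount.hermForm_smul_smul, hvv, mul_zero]
  have hecv : H d.e (c • v) = 1 := by
    rw [H_smul_right, hc, pow_qq hF, inv_mul_cancel₀ hev]
  obtain ⟨g, hg, hgv⟩ := exists_torus hF d.e_iso hcv hecv a.ne_zero
  refine ⟨⟨g, mem_borel d hg⟩, Units.ext (coef_eq d ⟨g, mem_borel d hg⟩ hg), ?_⟩
  rw [smul_pt]
  refine pt_eq_pt.mpr ⟨((a : F) ^ 3)⁻¹, ?_⟩
  apply smul_right_injective Vec hc0
  show c • _ = c • (mat g *ᵥ v)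
  rw [← Matrix.mulVec_smul, hgv, smul_comm]

include hF in
/-- A transvection fixing only the base point and conjugate to its inverse. -/
theorem exists_transvection : ∃ z : borel d, coef d z = 1 ∧
    (∀ p : IsoPt F 3 3, (z : G) • p = p → p = pt0 d) ∧ IsConj (z : G) (z : G)⁻¹ := by
  obtain ⟨c, hc0, hc⟩ := exists_traceZero (q := 3) hF
  set z : G := tvu hF d.e_iso hc with hz
  have hze : mat z *ᵥ d.e = (1 : F) • d.e := by
    rw [hz, tvu_mulVec, d.e_iso, mul_zero, zero_smul, add_zero, one_smul]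
  refine ⟨⟨z, mem_borel d hze⟩, Units.ext (coef_eq d ⟨z, mem_borel d hze⟩ hze), ?_, ?_⟩
  · intro p hp
    obtain ⟨v, hv, hvv, rfl⟩ := exists_pt p
    by_contra hne
    rw [smul_pt] at hp
    obtain ⟨a, ha⟩ := pt_eq_pt.mp hp
    replace ha : a • v = mat z *ᵥ v := ha
    rw [hz, tvu_mulVec] at ha
    have hev : H v d.e = 0 := by
      by_contra hev
      apply hne
      refine pt_eq_pt.mpr ⟨(a - 1)⁻¹ * (c * H v d.e), ?_⟩
      have h1 : (a - 1) • v = (c * H v d.e) • d.e := by
        rw [sub_smul, one_smul, ha, add_sub_cancel_left]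
      have ha1 : a - 1 ≠ 0 := fun h0 => by
        rw [h0, zero_smul] at h1
        rcases smul_eq_zero.mp h1.symm with h | h
        · exact mul_ne_zero hc0 hev h
        · exact d.e_ne h
      rw [mul_smul, ← h1, inv_smul_smul₀ ha1]
    obtain ⟨s, hs⟩ := SimpleFacts.UnitaryThreeSections.iso_orth_smul hF d.e_ne d.e_iso hvv hev
    exact hne (pt_eq_pt.mpr ⟨s, hs.symm⟩)
  · obtain ⟨a, ha⟩ : ∃ a : Fˣ, orderOf a = 8 := by
      obtain ⟨a, ha⟩ := IsCyclic.exists_ofOrder_eq_natCard (α := Fˣ)
      exact ⟨a, ha.trans (natCard_units hF)⟩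
    have ha4 : (a : F) ^ (3 + 1) = -1 := by
      have h1 : ((a : F) ^ 4) * ((a : F) ^ 4) = 1 := by
        rw [← pow_add]; exact pow_eight hF a.ne_zero
      rcases mul_self_eq_one_iff.mp h1 with h | h
      · exfalso
        have hd : orderOf a ∣ 4 := orderOf_dvd_iff_pow_eq_one.mpr (Units.ext (by simpa using h))
        rw [ha] at hd
        norm_num at hd
      · exact h
    obtain ⟨g, hg, -⟩ := exists_torus hF d.e_iso d.f_iso d.e_f a.ne_zero
    rw [isConj_iff]
    refine ⟨g, ?_⟩
    show g * z * g⁻¹ = z⁻¹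
    rw [eq_inv_iff_mul_eq_one, hz,
      tvu_conj hF g hg d.e_iso (by rw [UnitaryCount.hermForm_smul_smul, d.e_iso, mul_zero]) hc]
    refine SU_ext fun x => ?_
    rw [mul_mulVec, tvu_mulVec, tvu_mulVec, mat_one, one_mulVec, H_smul_right, H_add_left,
      H_smul_left, d.e_iso, mul_zero, add_zero, smul_smul, add_assoc, ← add_smul]
    rw [show c * H x d.e + c * ((a : F) ^ 3 * H x d.e) * (a : F) = 0 by
      linear_combination (c * H x d.e) * ha4, zero_smul, add_zero]

end Cfsg.Agent.UnitaryDegrees
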