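import Cfsg.Agent.Recognition.UnitaryDegrees.Induced
import Cfsg.Agent.Lib.PrimeBlock.Tools

/-!
# Irreducible characters of degrees 28 and 21 of `SU₃(3)`
-/

set_option autoImplicit false
set_option linter.style.haveILetI false

namespace Cfsg.Agent.UnitaryDegrees

open Matrix Cfsg.Agent.Forms Cfsg.Agent.Classical Cfsg.Agent.Classical.Unitary
  Cfsg.Agent.Characters
open scoped ComplexConjugate _root_.Classical

universe u

variable {F : Type u} [Field F] [Fintype F] (hF : Fintype.card F = 3 ^ 2) (d : Frame F)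

local notation "G" => Cfsg.SU 3 F 3

include hF in
theorem natCard_SU : Nat.card G = 6048 := by
  have h := natCard_SU_mul hF (n := 3) (by norm_num)
  rw [natCard_GU hF] at h
  simp only [Finset.prod_range_succ, Finset.prod_range_zero] at h
  norm_num [Nat.even_iff] at h
  rw [Nat.card_eq_fintype_card]
  omega

include hF in
theorem borel_card : Nat.card (borel d) = 216 := by
  have h := (borel d).card_mul_index
  rw [borel_index hF d, natCard_SU hF] at h
  omega

include hF in
theorem exists_faithful : ∃ φ : Fˣ →* ℂˣ, Function.Injective φ := by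
  have hc : Nat.card Fˣ = Nat.card (rootsOfUnity 8 ℂ) := by
    haveI : NeZero (8 : ℕ) := ⟨by norm_num⟩
    rw [natCard_units hF, Complex.card_rootsOfUnity]
  let e : Fˣ ≃* rootsOfUnity 8 ℂ := mulEquivOfCyclicCardEq hc
  exact ⟨(rootsOfUnity 8 ℂ).subtype.comp e.toMonoidHom,
    (rootsOfUnity 8 ℂ).subtype_injective.comp e.injective⟩

variable {φ : Fˣ →* ℂˣ} (hφ : Function.Injective φ)

include hF hφ

theorem pow_eq_one_iff' (i : ℕ) : φ ^ i = 1 ↔ 8 ∣ i := by
  constructor
  · intro h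
    obtain ⟨a, ha⟩ := IsCyclic.exists_ofOrder_eq_natCard (α := Fˣ)
    rw [← natCard_units hF, ← ha, orderOf_dvd_iff_pow_eq_one]
    apply hφ
    rw [map_pow, ← MonoidHom.pow_apply, h, MonoidHom.one_apply, map_one]
  · rintro ⟨k, rfl⟩
    ext x
    have hx : x ^ 8 = 1 := natCard_units hF ▸ pow_card_eq_one'
    rw [MonoidHom.pow_apply, ← map_pow, pow_mul, hx, _root_.one_pow, map_one, MonoidHom.one_apply]

omit hF hφ in
theorem twist_pow (i j : ℕ) : twist (φ ^ i) (φ ^ j) = φ ^ (i + 3 * j) := by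
  ext x
  simp [twist, pow_add, pow_mul, map_pow]
  ring

theorem pow_inj {i j : ℕ} (hi : i < 8) (hj : j < 8) (h : φ ^ i = φ ^ j) : i = j := by
  obtain ⟨a, ha⟩ := IsCyclic.exists_ofOrder_eq_natCard (α := Fˣ)
  rw [natCard_units hF] at ha
  refine pow_injOn_Iio_orderOf (x := a) (Set.mem_Iio.mpr (by omega)) (Set.mem_Iio.mpr (by omega)) ?_
  apply hφ
  show φ (a ^ i) = φ (a ^ j)
  rw [map_pow, map_pow, ← MonoidHom.pow_apply, h, MonoidHom.pow_apply]

theorem sum_powers (x : Fˣ) :
    ∑ i ∈ Finset.range 8, (((φ ^ i) x : ℂˣ) : ℂ) = if x = 1 then 8 else 0 := by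
  simp only [MonoidHom.pow_apply, Units.val_pow_eq_pow_val]
  split_ifs with h
  · subst h; simp
  · have h8 : ((φ x : ℂˣ) : ℂ) ^ 8 = 1 := by
      rw [← Units.val_pow_eq_pow_val, ← MonoidHom.pow_apply,
        (pow_eq_one_iff' hF hφ 8).mpr dvd_rfl]
      simp
    have hne : ((φ x : ℂˣ) : ℂ) - 1 ≠ 0 :=
      sub_ne_zero.mpr fun h1 => h (hφ ((Units.ext h1).trans (map_one φ).symm))
    exact (mul_eq_zero.mp (by rw [geom_sum_mul, h8, sub_self] :
      (∑ i ∈ Finset.range 8, ((φ x : ℂˣ) : ℂ) ^ i) * (((φ x : ℂˣ) : ℂ) - 1) = 0)).resolve_right hne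

variable [Fintype (Cfsg.SU 3 F 3)]

include d

theorem inner_pow {i j : ℕ} (hi : i < 8) (hj : j < 8) :
    Cfsg.classInner (Cfsg.indFun (borel d) (lin d (φ ^ i))) (Cfsg.indFun (borel d) (lin d (φ ^ j))) =
      ((if i = j then 1 else 0) + (if 8 ∣ i + 3 * j then 1 else 0) : ℕ) := by
  rw [inner_induced hF d]
  push_cast
  congr 1
  · by_cases h : i = j
    · rw [if_pos h, if_pos (by rw [h])]
    · rw [if_neg h, if_neg fun h' => h (pow_inj hF hφ hi hj h')]
  · have e : twist (φ ^ i) (φ ^ j) = 1 ↔ 8 ∣ i + 3 * j := by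
      rw [twist_pow, pow_eq_one_iff' hF hφ]
    by_cases h : 8 ∣ i + 3 * j
    · rw [if_pos h, if_pos (e.mpr h)]
    · rw [if_neg h, if_neg (fun h' => h (e.mp h'))]

/-- A character of degree 28. -/
theorem exists_degree_28 : ∃ χ : Cfsg.IrrCharacter G, Cfsg.charDegree (χ : G → ℂ) = 28 := by
  have h : Cfsg.IsIrrCharacter G (Cfsg.indFun (borel d) (lin d (φ ^ 1))) :=
    isIrr_of_isCharacter_of_norm_one (isCharacter_indFun _ (isCharacter_lin d _))
      (by rw [inner_pow hF d hφ (by norm_num) (by norm_num)]; norm_num)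
  refine ⟨⟨_, h⟩, ?_⟩
  have := BlocksChars.Degrees.charDegree_cast ⟨_, h⟩
  change (_ : ℂ) = Cfsg.indFun (borel d) (lin d (φ ^ 1)) 1 at this
  rw [indFun_one_eq hF d] at this
  exact_mod_cast this

/-- A real constituent of the reducible induced character has odd degree. -/
theorem odd_of_real {χ : G → ℂ} (hχ : Cfsg.IsCharacter G χ) (hreal : ∀ g, conj (χ g) = χ g)
    (h0 : ∀ i < 8, i ≠ 4 → Cfsg.classInner χ (Cfsg.indFun (borel d) (lin d (φ ^ i))) = 0)
    (h4 : Cfsg.classInner χ (Cfsg.indFun (borel d) (lin d (φ ^ 4))) = 1)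
    {n : ℕ} (hn : χ 1 = n) (hn28 : n < 28) : Odd n := by
  letI : Fintype (borel d) := Fintype.ofFinite _
  -- the sum over the unipotent radical
  set U : Finset (borel d) := Finset.univ.filter fun b => coef d b = 1 with hU
  have hsum : ∑ b ∈ U, χ (b : G) = 27 := by
    have h8 : (8 : ℂ) * ∑ b ∈ U, χ (b : G) =
        ∑ i ∈ Finset.range 8, ∑ b : borel d, χ (b : G) * conj (lin d (φ ^ i) b) := by
      rw [Finset.sum_comm, Finset.mul_sum, hU, Finset.sum_filter]
      refine Finset.sum_congr rfl fun b _ => ?_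
      rw [← Finset.mul_sum, ← map_sum]
      simp only [lin, sum_powers hF hφ]
      split_ifs <;> simp [mul_comm, map_ofNat]
    have hi : ∀ i ∈ Finset.range 8, ∑ b : borel d, χ (b : G) * conj (lin d (φ ^ i) b) =
        if i = 4 then 216 else 0 := by
      intro i hi
      have hh := frobenius_reciprocity' (borel d) (lin d (φ ^ i)) (char_isClassFunction hχ)
      rw [classInner_def (fun h : borel d => χ h), borel_card hF d] at hh
      have h216 : ((216 : ℕ) : ℂ) ≠ 0 := by norm_num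
      rw [eq_inv_mul_iff_mul_eq₀ h216] at hh
      rw [← hh]
      by_cases hi4 : i = 4
      · subst hi4; rw [h4]; simp
      · rw [h0 i (Finset.mem_range.mp hi) hi4, if_neg hi4, mul_zero]
    rw [Finset.sum_congr rfl hi, Finset.sum_ite_eq' (Finset.range 8) 4] at h8
    simp only [Finset.mem_range, Nat.lt_add_one_iff] at h8
    norm_num at h8
    linear_combination h8 / 8
  -- pair each element with its inverse
  have h1U : (1 : borel d) ∈ U := by simp [hU]
  have hUinv : ∀ b ∈ U, b⁻¹ ∈ U := fun b hb => by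
    simp only [hU, Finset.mem_filter, Finset.mem_univ, true_and] at hb ⊢
    rw [map_inv, hb, inv_one]
  have hUne : ∀ b ∈ U, b ≠ 1 → b⁻¹ ≠ b := by
    intro b hb hb1 hinv
    have h2 : b ^ 2 = 1 := by rw [pow_two]; nth_rw 1 [← hinv]; exact inv_mul_cancel b
    have hbker : b ∈ (coef d).ker := (Finset.mem_filter.mp hb).2
    have hker : Nat.card (coef d).ker = 27 := by
      have h := (coef d).ker.card_mul_index
      rw [Subgroup.index_ker, MonoidHom.range_eq_top.mpr (coef_surjective hF d), Subgroup.card_top,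
        natCard_units hF, borel_card hF d] at h
      omega
    have hd : orderOf b ∣ 27 := hker ▸ Subgroup.orderOf_dvd_natCard _ hbker
    have hd2 : orderOf b ∣ 2 := orderOf_dvd_iff_pow_eq_one.mpr h2
    exact hb1 (orderOf_eq_one_iff.mp (Nat.dvd_one.mp
      ((show Nat.gcd 27 2 = 1 by norm_num) ▸ Nat.dvd_gcd hd hd2)))
  let e := Fintype.equivFin (borel d)
  set S := (U.erase 1).filter fun b => e b < e b⁻¹ with hS
  have hpair : ∑ b ∈ U.erase 1, χ (b : G) = 2 * ∑ b ∈ S, χ (b : G) := by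
    rw [← Finset.sum_filter_add_sum_filter_not (U.erase 1) (fun b => e b < e b⁻¹), two_mul, ← hS]
    congr 1
    refine Finset.sum_nbij' (·⁻¹) (·⁻¹) ?_ ?_ (fun b _ => inv_inv b) (fun b _ => inv_inv b) ?_
    · intro b hb
      simp only [Finset.mem_erase, ne_eq, hS, inv_inv,
        inv_eq_one, Finset.mem_coe, Finset.mem_filter] at hb ⊢
      exact ⟨⟨hb.1.1, hUinv b hb.1.2⟩, lt_of_le_of_ne (not_lt.mp hb.2)
        fun h => hUne b hb.1.2 hb.1.1 (e.injective h)⟩
    · intro b hb
      simp only [Finset.mem_erase, ne_eq, hS, inv_inv,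
        inv_eq_one, Finset.mem_coe, Finset.mem_filter] at hb ⊢
      exact ⟨⟨hb.1.1, hUinv b hb.1.2⟩, lt_asymm hb.2⟩
    · intro b _
      rw [Subgroup.coe_inv, char_inv hχ, hreal]
  rw [← Finset.add_sum_erase _ _ h1U, hpair, OneMemClass.coe_one, hn] at hsum
  by_contra heven
  have hdiv : IsIntegral ℤ ((((27 - n : ℕ)) : ℂ) / ((2 : ℕ) : ℂ)) := by
    have : (((27 - n : ℕ)) : ℂ) / ((2 : ℕ) : ℂ) = ∑ b ∈ S, χ (b : G) := by
      rw [Nat.cast_sub (by omega)]
      push_cast
      linear_combination (-1 / 2 : ℂ) * hsum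
    rw [this]
    exact IsIntegral.sum _ fun b _ => char_value_isIntegral hχ _
  have := dvd_of_isIntegral_div two_ne_zero hdiv
  rw [Nat.not_odd_iff_even, even_iff_two_dvd] at heven
  omega

/-- A character of degree 21. -/
theorem exists_degree_21 [IsSimpleGroup G] (hna : ¬ IsMulCommutative G) :
    ∃ χ : Cfsg.IrrCharacter G, Cfsg.charDegree (χ : G → ℂ) = 21 := by
  haveI := Fintype.ofFinite (Cfsg.IrrCharacter G)
  set Φ := Cfsg.indFun (borel d) (lin d (φ ^ 4)) with hΦ
  have hΦc : Cfsg.IsCharacter G Φ := isCharacter_indFun _ (isCharacter_lin d _)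
  have hnorm : Cfsg.classInner Φ Φ = 2 := by
    rw [inner_pow hF d hφ (by norm_num) (by norm_num)]; norm_num
  obtain ⟨m, hm⟩ := char_eq_sum_nat hΦc
  have hin : ∀ ψ : Cfsg.IrrCharacter G, Cfsg.classInner Φ (ψ : G → ℂ) = (m ψ : ℂ) := by
    intro ψ
    rw [hm]
    simp [classInner_sum_left, classInner_smul_left, classInner_irr]
  have hsq : ∑ ψ, m ψ * m ψ = 2 := by
    have := classInner_eq_sum Φ (char_isClassFunction hΦc)
    simp only [fun ψ : Cfsg.IrrCharacter G => classInner_conj_symm Φ (ψ : G → ℂ), hin,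
      Complex.conj_natCast, hnorm] at this
    exact_mod_cast this.symm
  have hle : ∀ ψ, m ψ ≤ 1 := by
    intro ψ
    have := Finset.single_le_sum (f := fun ψ => m ψ * m ψ) (fun _ _ => Nat.zero_le _)
      (Finset.mem_univ ψ)
    rw [hsq] at this
    nlinarith
  set S := Finset.univ.filter fun ψ => m ψ = 1 with hS
  have hcard : S.card = 2 := by
    rw [Finset.card_filter, ← hsq]
    refine Finset.sum_congr rfl fun ψ _ => ?_
    have := hle ψ
    interval_cases h : m ψ <;> simp
  obtain ⟨χ, χ', hne, hSeq⟩ := Finset.card_eq_two.mp hcard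
  have hdec : Φ = (χ : G → ℂ) + (χ' : G → ℂ) := by
    rw [hm, ← Finset.sum_pair (f := fun ψ : Cfsg.IrrCharacter G => (ψ : G → ℂ)) hne, ← hSeq, hS,
      Finset.sum_filter]
    refine Finset.sum_congr rfl fun ψ _ => ?_
    have := hle ψ
    interval_cases h : m ψ <;> simp
  have hone : ∀ ψ, m ψ = 1 → ψ = χ ∨ ψ = χ' := fun ψ hψ => by
    have h : ψ ∈ S := by simp [hS, hψ]
    simpa [hSeq] using h
  have hχ1 : m χ = 1 := by
    have : χ ∈ S := by simp [hSeq]
    simpa [hS] using this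
  have hχ'1 : m χ' = 1 := by
    have : χ' ∈ S := by simp [hSeq]
    simpa [hS] using this
  have hdeg : Cfsg.charDegree (χ : G → ℂ) + Cfsg.charDegree (χ' : G → ℂ) = 28 := by
    have h := congrFun hdec 1
    rw [hΦ, indFun_one_eq hF d, Pi.add_apply, ← BlocksChars.Degrees.charDegree_cast,
      ← BlocksChars.Degrees.charDegree_cast] at h
    exact_mod_cast h.symm
  -- no trivial constituent
  have htriv : ∀ ψ, m ψ = 1 → ψ ≠ trivIrr G := by
    rintro ψ hψ rfl
    have h := hin (trivIrr G)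
    letI : Fintype (borel d) := Fintype.ofFinite _
    rw [hΦ, frobenius_reciprocity (borel d) _ (char_isClassFunction (irr_isCharacter _)), hψ,
      classInner_def] at h
    have hs : ∑ b : borel d, lin d (φ ^ 4) b * conj ((trivIrr G : G → ℂ) (b : G)) = 0 := by
      simp only [trivIrr_coe, map_one, mul_one]
      rw [show (fun b => lin d (φ ^ 4) b) = fun b => (((φ ^ 4).comp (coef d)) b : ℂ) from rfl,
        sum_hom, if_neg]
      intro h'
      have h8 : ¬ 8 ∣ 4 := by norm_num
      refine h8 ((pow_eq_one_iff' hF hφ 4).mp (MonoidHom.ext fun x => ?_))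
      obtain ⟨b, rfl⟩ := coef_surjective hF d x
      exact DFunLike.congr_fun h' b
    rw [hs, mul_zero, Nat.cast_one] at h
    exact zero_ne_one h
  have hd1 : ∀ ψ, m ψ = 1 → Cfsg.charDegree (ψ : G → ℂ) ≠ 1 := fun ψ hψ =>
    PrimeBlock.deg_ne_one hna (htriv ψ hψ)
  -- the induced character is real
  have hΦreal : ∀ g, conj (Φ g) = Φ g := by
    intro g
    rw [← char_inv hΦc, hΦ, Cfsg.indFun, Cfsg.indFun]
    congr 1
    refine Finset.sum_congr rfl fun x _ => ?_
    by_cases hx : x⁻¹ * g * x ∈ borel d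
    · have hx' : x⁻¹ * g⁻¹ * x ∈ borel d := by
        simpa [mul_assoc] using inv_mem hx
      rw [CharTheory.IndBasic.extendByZero_of_mem _ _ hx,
        CharTheory.IndBasic.extendByZero_of_mem _ _ hx']
      show (((φ ^ 4) (coef d _) : ℂˣ) : ℂ) = _
      rw [show (⟨x⁻¹ * g⁻¹ * x, hx'⟩ : borel d) = (⟨x⁻¹ * g * x, hx⟩ : borel d)⁻¹ from
        Subtype.ext (by simp [mul_assoc]), map_inv (coef d), map_inv]
      show (((φ ^ 4) (coef d ⟨_, hx⟩))⁻¹ : ℂˣ).val = ((φ ^ 4) (coef d ⟨_, hx⟩) : ℂˣ).val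
      congr 1
      rw [inv_eq_iff_mul_eq_one, ← MonoidHom.mul_apply, ← pow_add,
        (pow_eq_one_iff' hF hφ 8).mpr dvd_rfl, MonoidHom.one_apply]
    · rw [CharTheory.IndBasic.extendByZero_of_notMem _ _ hx,
        CharTheory.IndBasic.extendByZero_of_notMem]
      exact fun h => hx (by simpa [mul_assoc] using inv_mem h)
  -- a non-real constituent would have an algebraic half at a transvection
  have hrealχ : ∀ ψ, m ψ = 1 → ∀ g, conj ((ψ : G → ℂ) g) = (ψ : G → ℂ) g := by
    intro ψ hψ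
    let ψc : Cfsg.IrrCharacter G := ⟨fun g => conj ((ψ : G → ℂ) g), isIrrCharacter_conj ψ.2⟩
    have hc : m ψc = 1 := by
      have h := hin ψc
      have h2 : Cfsg.classInner Φ (ψc : G → ℂ) = conj (Cfsg.classInner Φ (ψ : G → ℂ)) := by
        conv_lhs => rw [show Φ = fun g => conj (Φ g) from funext fun g => (hΦreal g).symm]
        exact classInner_conj_conj _ _
      rw [h2, hin, hψ, Complex.conj_natCast] at h
      exact_mod_cast h.symm
    by_cases heq : ψc = ψ
    · exact fun g => congrFun (congrArg Subtype.val heq) g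
    exfalso
    have hsum2 : Φ = (ψ : G → ℂ) + (ψc : G → ℂ) := by
      rcases hone ψ hψ with rfl | rfl <;> rcases hone ψc hc with h | h
      · exact absurd h heq
      · rw [h]; exact hdec
      · rw [h, add_comm]; exact hdec
      · exact absurd h heq
    obtain ⟨z, hz, hfix, hconj⟩ := exists_transvection hF d
    have h1 := congrFun hsum2 (z : G)
    rw [hΦ, indFun_transvection hF d _ hz hfix, Pi.add_apply] at h1
    have h2 : conj ((ψ : G → ℂ) (z : G)) = (ψ : G → ℂ) (z : G) := by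
      rw [← char_inv (irr_isCharacter ψ)]
      obtain ⟨g, hg⟩ := isConj_iff.mp hconj
      rw [← hg, char_isClassFunction (irr_isCharacter ψ)]
    rw [show (ψc : G → ℂ) (z : G) = conj ((ψ : G → ℂ) (z : G)) from rfl, h2, ← two_mul] at h1
    have hdiv : IsIntegral ℤ (((1 : ℕ) : ℂ) / ((2 : ℕ) : ℂ)) := by
      have : ((1 : ℕ) : ℂ) / ((2 : ℕ) : ℂ) = (ψ : G → ℂ) (z : G) := by
        rw [Nat.cast_one, h1, Nat.cast_ofNat, mul_div_cancel_left₀ _ (two_ne_zero)]
      rw [this]
      exact char_value_isIntegral (irr_isCharacter ψ) _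
    exact absurd (dvd_of_isIntegral_div two_ne_zero hdiv) (by norm_num)
  -- orthogonality to the other induced characters
  have horth : ∀ ψ, m ψ = 1 → ∀ i < 8, i ≠ 4 →
      Cfsg.classInner (ψ : G → ℂ) (Cfsg.indFun (borel d) (lin d (φ ^ i))) = 0 := by
    intro ψ hψ i hi hi4
    have h := inner_pow hF d hφ (i := 4) (j := i) (by norm_num) hi
    rw [if_neg (Ne.symm hi4), if_neg (by omega)] at h
    rw [← hΦ, hdec, classInner_add_left] at h
    obtain ⟨u, hu⟩ := classInner_char_nat (irr_isCharacter χ)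
      (isCharacter_indFun (borel d) (isCharacter_lin d (φ ^ i)))
    obtain ⟨w, hw⟩ := classInner_char_nat (irr_isCharacter χ')
      (isCharacter_indFun (borel d) (isCharacter_lin d (φ ^ i)))
    rw [hu, hw] at h
    have h' : u + w = 0 := by exact_mod_cast h
    rcases hone ψ hψ with rfl | rfl
    · rw [hu, show u = 0 by omega, Nat.cast_zero]
    · rw [hw, show w = 0 by omega, Nat.cast_zero]
  have hodd : ∀ ψ, m ψ = 1 → Cfsg.charDegree (ψ : G → ℂ) < 28 →
      Odd (Cfsg.charDegree (ψ : G → ℂ)) := fun ψ hψ hlt =>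
    odd_of_real hF d hφ (irr_isCharacter ψ) (hrealχ ψ hψ) (horth ψ hψ)
      (by rw [← hΦ, classInner_conj_symm, hin, hψ, Complex.conj_natCast, Nat.cast_one])
      (BlocksChars.Degrees.charDegree_cast ψ).symm hlt
  have hp := BlocksChars.Degrees.charDegree_pos χ
  have hp' := BlocksChars.Degrees.charDegree_pos χ'
  have o1 := hodd χ hχ1 (by omega)
  have o2 := hodd χ' hχ'1 (by omega)
  have dv1 : Cfsg.charDegree (χ : G → ℂ) ∣ 6048 :=
    natCard_SU hF ▸ BlocksChars.Degrees.charDegree_dvd_card χ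
  have dv2 : Cfsg.charDegree (χ' : G → ℂ) ∣ 6048 :=
    natCard_SU hF ▸ BlocksChars.Degrees.charDegree_dvd_card χ'
  have key : ∀ a < 28, a ∣ 6048 → (28 - a) ∣ 6048 → a % 2 = 1 → a ≠ 1 → 28 - a ≠ 1 →
      a = 21 ∨ 28 - a = 21 := by
    intro a ha
    interval_cases a <;> norm_num
  rcases key _ (show Cfsg.charDegree (χ : G → ℂ) < 28 by omega) dv1
    (by rw [show 28 - Cfsg.charDegree (χ : G → ℂ) = Cfsg.charDegree (χ' : G → ℂ) by omega]; exact dv2)
    (Nat.odd_iff.mp o1) (hd1 χ hχ1) (by have := hd1 χ' hχ'1; omega) with h | h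
  · exact ⟨χ, h⟩
  · exact ⟨χ', by omega⟩

end Cfsg.Agent.UnitaryDegrees
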