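import Cfsg.Agent.Recognition.UnitaryDegrees.Borel
import Cfsg.Agent.Lib.Characters.Induction
import Cfsg.Agent.Lib.Characters.Kernel
import Cfsg.Agent.Lib.Characters.Integrality
import Cfsg.Agent.BlocksChars.Degrees

/-!
# Characters of `SU₃(3)` induced from linear characters of the Borel subgroup
-/

set_option autoImplicit false
set_option linter.style.haveILetI false

namespace Cfsg.Agent.UnitaryDegrees

open Matrix Cfsg.Agent.Forms Cfsg.Agent.Classical Cfsg.Agent.Classical.Unitary
  Cfsg.Agent.Characters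
open scoped ComplexConjugate _root_.Classical

universe u

variable {F : Type u} [Field F] [Fintype F] (hF : Fintype.card F = 3 ^ 2) (d : Frame F)

local notation "G" => Cfsg.SU 3 F 3

/-- A linear character of the Borel subgroup. -/
noncomputable def lin (φ : Fˣ →* ℂˣ) : borel d → ℂ := fun b => (φ (coef d b) : ℂ)

theorem isCharacter_lin (φ : Fˣ →* ℂˣ) : Cfsg.IsCharacter (borel d) (lin d φ) :=
  isCharacter_linear (φ.comp (coef d))

theorem conj_units (φ : Fˣ →* ℂˣ) (a : Fˣ) : conj ((φ a : ℂˣ) : ℂ) = ((φ a⁻¹ : ℂˣ) : ℂ) := by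
  have h : ‖((φ a : ℂˣ) : ℂ)‖ = 1 := linear_norm_eq_one φ a
  have hne : ((φ a : ℂˣ) : ℂ) ≠ 0 := Units.ne_zero _
  rw [map_inv, Units.val_inv_eq_inv_val]
  refine eq_inv_of_mul_eq_one_left ?_
  rw [mul_comm, Complex.mul_conj', h]
  simp

theorem sum_hom {D : Type*} [Group D] [Fintype D] (η : D →* ℂˣ) :
    ∑ x : D, (η x : ℂ) = if η = 1 then (Nat.card D : ℂ) else 0 := by
  split_ifs with h
  · subst h
    simp
  · obtain ⟨y, hy⟩ : ∃ y, η y ≠ 1 := by
      by_contra hh
      push Not at hh
      exact h (MonoidHom.ext hh)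
    have hs : (η y : ℂ) * ∑ x : D, (η x : ℂ) = ∑ x : D, (η x : ℂ) := by
      rw [Finset.mul_sum]
      exact Fintype.sum_equiv (Equiv.mulLeft y) _ _ fun x => by simp
    have : ((η y : ℂ) - 1) * ∑ x : D, (η x : ℂ) = 0 := by rw [sub_mul, one_mul, hs, sub_self]
    exact (mul_eq_zero.mp this).resolve_left (sub_ne_zero.mpr fun h' => hy (Units.ext h'))

/-- The twist `φ · (ψ ∘ cube)` deciding whether two induced characters share a constituent. -/
noncomputable def twist (φ ψ : Fˣ →* ℂˣ) : Fˣ →* ℂˣ := φ * ψ.comp (powMonoidHom 3)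

include hF in
theorem inner_induced (φ ψ : Fˣ →* ℂˣ) [Fintype G] :
    Cfsg.classInner (Cfsg.indFun (borel d) (lin d φ)) (Cfsg.indFun (borel d) (lin d ψ)) =
      (if φ = ψ then 1 else 0) + (if twist φ ψ = 1 then 1 else 0) := by
  letI : Fintype (borel d) := Fintype.ofFinite _
  set B := borel d with hB
  rw [frobenius_reciprocity B _ (indFun_isClassFunction B _), classInner_def]
  have hB0 : (Nat.card B : ℂ) ≠ 0 := Nat.cast_ne_zero.mpr Nat.card_pos.ne'
  apply mul_left_cancel₀ hB0
  rw [mul_inv_cancel_left₀ hB0]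
  apply mul_left_cancel₀ hB0
  rw [Finset.mul_sum]
  have h1 : ∀ b : B, (Nat.card B : ℂ) * (lin d φ b * conj (Cfsg.indFun B (lin d ψ) (b : G))) =
      ∑ x : G, lin d φ b * conj (Cfsg.extendByZero B (lin d ψ) (x⁻¹ * b * x)) := by
    intro b
    rw [← Finset.mul_sum, ← map_sum, ← CharTheory.IndBasic.card_mul_indFun, map_mul,
      Complex.conj_natCast]
    ring
  rw [Finset.sum_congr rfl (fun b _ => h1 b), Finset.sum_comm,
    ← Finset.sum_filter_add_sum_filter_not Finset.univ (fun x : G => x ∈ B)]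
  set S : G → ℂ := fun x => ∑ b : B, lin d φ b * conj (Cfsg.extendByZero B (lin d ψ) (x⁻¹ * b * x))
    with hS
  have hin : ∀ x : G, x ∈ B → S x = if φ = ψ then (Nat.card B : ℂ) else 0 := by
    intro x hx
    have hmem : ∀ b : B, x⁻¹ * b * x ∈ B := fun b =>
      B.mul_mem (B.mul_mem (B.inv_mem hx) b.2) hx
    have : S x = ∑ b : B, (((φ * ψ⁻¹).comp (coef d)) b : ℂ) := by
      refine Finset.sum_congr rfl fun b _ => ?_
      rw [CharTheory.IndBasic.extendByZero_of_mem B _ (hmem b)]
      show (φ (coef d b) : ℂ) * conj ((ψ (coef d ⟨_, hmem b⟩) : ℂˣ) : ℂ) = _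
      rw [show (⟨x⁻¹ * b * x, hmem b⟩ : B) = (⟨x, hx⟩ : B)⁻¹ * b * ⟨x, hx⟩ from rfl,
        map_mul (coef d), map_mul (coef d), map_inv (coef d), mul_right_comm, inv_mul_cancel, one_mul, conj_units, ← Units.val_mul]
      simp
    rw [this, sum_hom]
    by_cases h : φ = ψ
    · rw [if_pos h, if_pos (by ext; simp [h])]
    · rw [if_neg h, if_neg]
      intro hc
      apply h
      ext a
      obtain ⟨b, rfl⟩ := coef_surjective hF d a
      have := DFunLike.congr_fun hc b
      simp only [MonoidHom.comp_apply, MonoidHom.mul_apply, MonoidHom.inv_apply,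
        MonoidHom.one_apply, mul_inv_eq_one] at this
      rw [this]
  have hout : ∀ x : G, x ∉ B → S x = if twist φ ψ = 1 then
      ((Nat.card (B ⊓ MulAction.stabilizer G (x • pt0 d) : Subgroup G)) : ℂ) else 0 := by
    intro x hx
    set D : Subgroup G := B ⊓ MulAction.stabilizer G (x • pt0 d) with hD
    letI : Fintype D := Fintype.ofFinite _
    obtain ⟨v, hv, hvv, hpv⟩ := exists_pt (x • pt0 d)
    have hne : pt v hv hvv ≠ pt0 d := by rw [hpv]; exact hx
    have hiff : ∀ b : B, x⁻¹ * (b : G) * x ∈ B ↔ (b : G) ∈ D := by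
      intro b
      rw [hD, Subgroup.mem_inf]
      simp only [SetLike.coe_mem, true_and]
      show (x⁻¹ * b * x) • pt0 d = pt0 d ↔ (b : G) • x • pt0 d = x • pt0 d
      rw [mul_smul, mul_smul, inv_smul_eq_iff]
    let η : D →* ℂˣ := (twist φ ψ).comp ((coef d).comp (Subgroup.inclusion inf_le_left))
    have hval : ∀ b : B, ∀ hb : (b : G) ∈ D,
        lin d φ b * conj (Cfsg.extendByZero B (lin d ψ) (x⁻¹ * b * x)) = (η ⟨b, hb⟩ : ℂ) := by
      intro b hb
      have hm := (hiff b).mpr hb
      rw [CharTheory.IndBasic.extendByZero_of_mem B _ hm]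
      have hbv : (b : G) • pt v hv hvv = pt v hv hvv := by rw [hpv]; exact hb.2
      rw [smul_pt] at hbv
      obtain ⟨m, hm'⟩ := pt_eq_pt.mp hbv
      have hxe : mat x *ᵥ d.e ≠ 0 := mat_mulVec_ne_zero x d.e_ne
      obtain ⟨t, ht⟩ : ∃ t : F, t • (mat x *ᵥ d.e) = v := by
        have h' : pt v hv hvv = x • pt d.e d.e_ne d.e_iso := hpv
        rw [smul_pt] at h'
        exact pt_eq_pt.mp h'
      have ht0 : t ≠ 0 := fun h0 => hv (by rw [← ht, h0, zero_smul])
      have hm0 : m ≠ 0 := fun h0 => mat_mulVec_ne_zero (b : G) hv (by rw [← hm', h0, zero_smul])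
      have hcx : ((coef d ⟨_, hm⟩ : Fˣ) : F) = m := by
        refine coef_eq d _ ?_
        show mat (x⁻¹ * (b : G) * x) *ᵥ d.e = _
        rw [mul_mulVec, mul_mulVec]
        refine inv_mulVec x ?_
        rw [Matrix.mulVec_smul]
        apply smul_right_injective _ ht0
        show t • (m • (mat x *ᵥ d.e)) = t • (mat (b : G) *ᵥ (mat x *ᵥ d.e))
        rw [smul_comm t m, ht, ← Matrix.mulVec_smul, ht]
        exact hm'
      have hrel := scalar_rel hF d hv hvv hne (coef_spec d b) hm'.symm
      have hinv : (coef d ⟨_, hm⟩ : Fˣ)⁻¹ = (coef d b) ^ 3 := by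
        refine inv_eq_of_mul_eq_one_right (Units.ext ?_)
        rw [Units.val_mul, hcx, Units.val_pow_eq_pow_val, Units.val_one]
        have h9 : m ^ 9 = m := by
          calc m ^ 9 = m * m ^ 8 := by ring
            _ = m := by rw [pow_eight hF hm0, mul_one]
        calc m * ((coef d b : Fˣ) : F) ^ 3 = (((coef d b : Fˣ) : F) * m ^ 3) ^ 3 := by
              rw [mul_pow, ← pow_mul, show 3 * 3 = 9 from rfl, h9, mul_comm]
          _ = 1 := by rw [hrel, one_pow]
      show (φ (coef d b) : ℂ) * conj ((ψ (coef d ⟨_, hm⟩) : ℂˣ) : ℂ) = _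
      rw [conj_units, hinv, ← Units.val_mul]
      rfl
    have h2 : S x = ∑ b : D, (η b : ℂ) := by
      rw [hS]
      refine (Finset.sum_of_injOn (fun b : D => (⟨b, b.2.1⟩ : B)) ?_ (by simp) ?_ ?_).symm
      · intro a _ b _ hab
        exact Subtype.ext (congrArg Subtype.val hab :)
      · intro b _ hb
        have : (b : G) ∉ D := fun hbD => hb ⟨⟨b, hbD⟩, by simp, rfl⟩
        rw [CharTheory.IndBasic.extendByZero_of_notMem B _ (fun h => this ((hiff b).mp h)),
          map_zero, mul_zero]
      · intro b _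
        exact (hval ⟨b, b.2.1⟩ b.2).symm
    rw [h2, sum_hom]
    by_cases h : twist φ ψ = 1
    · rw [if_pos h, if_pos (by ext; simp [η, h])]
    · rw [if_neg h, if_neg]
      intro hc
      apply h
      ext a
      obtain ⟨g, hga, hgv⟩ := exists_two_point hF d hv hvv hne a
      have hgD : (g : G) ∈ D := ⟨g.2, by rw [← hpv]; exact hgv⟩
      have h := DFunLike.congr_fun hc ⟨g, hgD⟩
      have h' : twist φ ψ (coef d g) = 1 := h
      rw [hga] at h'
      rw [h']
      rfl
  show ∑ x ∈ Finset.univ.filter (fun x : G => x ∈ B), S x +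
    ∑ x ∈ Finset.univ.filter (fun x : G => ¬ x ∈ B), S x = _
  rw [Finset.sum_congr rfl (fun x hx => hin x (Finset.mem_filter.mp hx).2),
    Finset.sum_congr rfl (fun x hx => hout x (Finset.mem_filter.mp hx).2)]
  have hcnt : ∑ x ∈ Finset.univ.filter (fun x : G => ¬ x ∈ B),
      (Nat.card (B ⊓ MulAction.stabilizer G (x • pt0 d) : Subgroup G) : ℂ) =
        (Nat.card B : ℂ) * Nat.card B := by
    haveI : Finite (IsoPt F 3 3) := Nat.finite_of_card_ne_zero (by rw [natCard_isoPt hF]; norm_num)
    haveI : Fintype (IsoPt F 3 3) := Fintype.ofFinite _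
    haveI := su_isPretransitive (n := 3) hF
    -- sum over the points different from the base point
    have hfib : ∑ x ∈ Finset.univ.filter (fun x : G => ¬ x ∈ B),
        (Nat.card (B ⊓ MulAction.stabilizer G (x • pt0 d) : Subgroup G) : ℂ) =
        ∑ p ∈ Finset.univ.erase (pt0 d),
          (Nat.card B : ℂ) * Nat.card (B ⊓ MulAction.stabilizer G p : Subgroup G) := by
      rw [← Finset.sum_fiberwise_of_maps_to (g := fun x : G => x • pt0 d)
        (t := Finset.univ.erase (pt0 d))]
      · refine Finset.sum_congr rfl fun p hp => ?_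
        obtain ⟨y, hy⟩ := MulAction.exists_smul_eq G (pt0 d) p
        have hp' := Finset.ne_of_mem_erase hp
        rw [Finset.sum_congr rfl (g := fun _ =>
          (Nat.card (B ⊓ MulAction.stabilizer G p : Subgroup G) : ℂ))
          (fun x hx => by rw [(Finset.mem_filter.mp hx).2]), Finset.sum_const, nsmul_eq_mul]
        congr 2
        rw [Nat.card_eq_fintype_card, ← Finset.card_univ]
        refine (Finset.card_bij (fun (b : B) _ => y * (b : G)) (fun b _ => ?_) (fun a _ b _ h => ?_)
          (fun x hx => ?_)).symm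
        · have : (y * (b : G)) • pt0 d = p := by
            rw [mul_smul, show (b : G) • pt0 d = pt0 d from b.2, hy]
          simp only [Finset.mem_filter, Finset.mem_univ, true_and]
          exact ⟨fun h => hp' (this.symm.trans h), this⟩
        · exact Subtype.ext (mul_left_cancel h)
        · refine ⟨⟨y⁻¹ * x, ?_⟩, Finset.mem_univ _, by simp⟩
          show (y⁻¹ * x) • pt0 d = pt0 d
          rw [mul_smul, (Finset.mem_filter.mp hx).2, ← hy, inv_smul_smul]
      · intro x hx
        simp only [Finset.mem_erase, Finset.mem_univ, and_true]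
        exact (Finset.mem_filter.mp hx).2
    rw [hfib, ← Finset.mul_sum]
    congr 1
    -- the Borel subgroup is transitive on the other points
    have htrans : ∀ p q : IsoPt F 3 3, p ≠ pt0 d → q ≠ pt0 d →
        ∃ b : B, (b : G) • p = q := by
      intro p q hp hq
      obtain ⟨u, hu, huu, rfl⟩ := exists_pt p
      obtain ⟨v, hv, hvv, rfl⟩ := exists_pt q
      obtain ⟨k, a, b, hk, hk'⟩ := exists_su_pair hF d.e_iso huu d.e_iso hvv
        (li_of_pt_ne (hu := d.e_ne) (hv := hu) (huu := d.e_iso) (hvv := huu) (Ne.symm hp))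
        (li_of_pt_ne (hu := d.e_ne) (hv := hv) (huu := d.e_iso) (hvv := hvv) (Ne.symm hq))
        (iff_of_false (H_ne_zero hF d hu huu hp) (H_ne_zero hF d hv hvv hq))
      refine ⟨⟨k, mem_borel d hk⟩, ?_⟩
      show k • pt u hu huu = _
      rw [smul_pt]
      exact pt_eq_pt.mpr ⟨b, hk'.symm⟩
    obtain ⟨q, hq⟩ : ∃ q : IsoPt F 3 3, q ≠ pt0 d := by
      by_contra h
      push Not at h
      have hsub : Subsingleton (IsoPt F 3 3) := ⟨fun a b => (h a).trans (h b).symm⟩
      have := Finite.card_le_one_iff_subsingleton.mpr hsub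
      rw [natCard_isoPt hF] at this
      omega
    have horb : MulAction.orbit B q = {p | p ≠ pt0 d} := by
      ext p
      constructor
      · rintro ⟨b, rfl⟩ h
        apply hq
        have hb : (b : G) • q = pt0 d := h
        rw [← inv_smul_smul (b : G) q, hb]
        exact (b⁻¹).2
      · intro hp
        obtain ⟨b, hb⟩ := htrans q p hq hp
        exact ⟨b, hb⟩
    have hst : ∀ p : IsoPt F 3 3, Nat.card (B ⊓ MulAction.stabilizer G p : Subgroup G) =
        Nat.card (MulAction.stabilizer B p) := fun p =>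
      Nat.card_congr
        { toFun := fun g => ⟨⟨g, g.2.1⟩, g.2.2⟩
          invFun := fun g => ⟨g.1, g.1.2, g.2⟩
          left_inv := fun g => rfl
          right_inv := fun g => rfl }
    have hconst : ∀ p ∈ Finset.univ.erase (pt0 d),
        (Nat.card (B ⊓ MulAction.stabilizer G p : Subgroup G) : ℂ) =
          Nat.card (MulAction.stabilizer B q) := by
      intro p hp
      obtain ⟨b, hb⟩ := htrans q p hq (Finset.ne_of_mem_erase hp)
      rw [hst]
      exact_mod_cast Nat.card_congr
        (MulAction.stabilizerEquivStabilizer (g := b) hb.symm).symm.toEquiv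
    rw [Finset.sum_congr rfl hconst, Finset.sum_const, nsmul_eq_mul, ← Nat.cast_mul]
    congr 1
    rw [← Nat.card_congr (MulAction.orbitProdStabilizerEquivGroup B q), Nat.card_prod, horb]
    congr 1
    rw [Nat.card_eq_fintype_card, Fintype.card_subtype]
    congr 1
    ext p
    simp
  have hBc : ((Finset.univ.filter fun x : G => x ∈ B).card : ℂ) = Nat.card B := by
    rw [Nat.card_eq_fintype_card, Fintype.card_subtype]
  rw [Finset.sum_const, nsmul_eq_mul, hBc]
  split_ifs with h1 h2 h2
  · rw [hcnt]; ring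
  · rw [Finset.sum_const_zero]; ring
  · rw [hcnt]; ring
  · rw [Finset.sum_const_zero]; ring

include hF in
theorem indFun_one_eq (φ : Fˣ →* ℂˣ) [Fintype G] :
    Cfsg.indFun (borel d) (lin d φ) 1 = (28 : ℂ) := by
  rw [indFun_one, borel_index hF d]
  simp [lin]

include hF in
/-- The value at the transvection. -/
theorem indFun_transvection (φ : Fˣ →* ℂˣ) [Fintype G] {z : borel d} (hz : coef d z = 1)
    (hfix : ∀ p : IsoPt F 3 3, (z : G) • p = p → p = pt0 d) :
    Cfsg.indFun (borel d) (lin d φ) (z : G) = 1 := by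
  classical
  have hB0 : (Nat.card (borel d) : ℂ) ≠ 0 := Nat.cast_ne_zero.mpr Nat.card_pos.ne'
  apply mul_left_cancel₀ hB0
  rw [CharTheory.IndBasic.card_mul_indFun, mul_one]
  have hiff : ∀ x : G, x⁻¹ * (z : G) * x ∈ borel d ↔ x ∈ borel d := by
    intro x
    constructor
    · intro h
      show x • pt0 d = pt0 d
      refine hfix _ ?_
      have h' : (x⁻¹ * (z : G) * x) • pt0 d = pt0 d := h
      rwa [mul_smul, mul_smul, inv_smul_eq_iff] at h'
    · exact fun hx => mul_mem (mul_mem (inv_mem hx) z.2) hx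
  have hterm : ∀ x : G, Cfsg.extendByZero (borel d) (lin d φ) (x⁻¹ * (z : G) * x) =
      if x ∈ borel d then 1 else 0 := by
    intro x
    split_ifs with hx
    · rw [CharTheory.IndBasic.extendByZero_of_mem _ _ ((hiff x).mpr hx)]
      show (φ (coef d ((⟨x, hx⟩ : borel d)⁻¹ * z * ⟨x, hx⟩)) : ℂ) = 1
      rw [map_mul (coef d), map_mul (coef d), map_inv (coef d), hz, mul_one, inv_mul_cancel, map_one, Units.val_one]
    · exact CharTheory.IndBasic.extendByZero_of_notMem _ _ fun h => hx ((hiff x).mp h)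
  simp only [hterm, Finset.sum_boole]
  rw [Nat.card_eq_fintype_card, Fintype.card_subtype]

end Cfsg.Agent.UnitaryDegrees
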