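import Cfsg.Agent.Lib.PrimeBlock.ThreePrimes
import Cfsg.Agent.Lib.PrimeBlock.Tools
import Cfsg.Agent.BlocksChars.Degrees

/-!
# A simple group of order 6048 has an irreducible degree divisible by six
-/

set_option autoImplicit false
set_option linter.style.haveILetI false

namespace Cfsg.Agent.UnitaryDegrees

open Cfsg.Agent.Characters Subgroup
open Cfsg.Agent.PrimeBlock (deg)

universe u

variable {G : Type u} [Group G] [Finite G]

theorem exists_deg_six [IsSimpleGroup G] (hna : ¬ IsMulCommutative G) (hcard : Nat.card G = 6048)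
    (hinv : ∀ t : G, t ≠ 1 → t * t = 1 →
      Nat.card (centralizer ({t} : Set G)) = 96) :
    ∃ χ : Cfsg.IrrCharacter G, 6 ∣ deg χ := by
  haveI : Fact (Nat.Prime 7) := ⟨by norm_num⟩
  haveI := Fintype.ofFinite G
  obtain ⟨P, D₀, he1⟩ := PrimeBlock.exists_pblock_simple hna (p := 7) (m := 864)
    (by rw [hcard]) (by norm_num)
  obtain ⟨D, ht, hts⟩ := PrimeBlock.exists_pblock' hna (by norm_num) P D₀.card_P
  rw [show D₀.e = D.e by rw [← D.he, ← D₀.he]] at he1
  set C := centralizer ((P : Subgroup G) : Set G) with hC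
  set N := normalizer ((P : Subgroup G) : Set G) with hN
  -- the centralizer of a Sylow `7`-subgroup has odd order
  have hodd : ¬ 2 ∣ Nat.card C := by
    intro h2
    obtain ⟨t, ht2⟩ := exists_prime_orderOf_dvd_card' (G := C) 2 h2
    have h1 : (t : G) ≠ 1 := fun h => by
      rw [show t = 1 from Subtype.ext h, orderOf_one] at ht2
      norm_num at ht2
    have hsq : (t : G) * t = 1 := by
      rw [← Subgroup.coe_mul, ← pow_two, ← ht2, pow_orderOf_eq_one, OneMemClass.coe_one]
    have hle : (P : Subgroup G) ≤ centralizer ({(t : G)} : Set G) := fun x hx =>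
      mem_centralizer_singleton_iff.mpr (mem_centralizer_iff.mp t.2 x hx)
    have hd := card_dvd_of_le hle
    rw [D.card_P, hinv _ h1 hsq] at hd
    norm_num at hd
  -- hence the inertial index is three
  have hrel : Nat.card C * D.e = Nat.card N := by
    have h := relIndex_mul_relIndex ⊥ C N bot_le (centralizer_le_normalizer _)
    rw [relIndex_bot_left, relIndex_bot_left, D.he] at h
    exact h
  have hPC : 7 ∣ Nat.card C := by
    rw [← D.card_P]
    refine card_dvd_of_le fun x hx => mem_centralizer_iff.mpr fun y hy => ?_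
    haveI : IsCyclic (P : Subgroup G) := isCyclic_of_prime_card D.card_P
    exact congrArg Subtype.val (mul_comm' (⟨y, hy⟩ : (P : Subgroup G)) ⟨x, hx⟩)
  obtain ⟨c, hc⟩ := hPC
  have hn : Nat.card (Sylow 7 G) * (7 * c * D.e) = 6048 := by
    rw [← hc, hrel, P.card_eq_index_normalizer, ← hcard, mul_comm]
    exact N.card_mul_index
  have hmod : Nat.card (Sylow 7 G) % 7 = 1 := card_sylow_modEq_one 7 G
  have he3 : D.e = 3 := by
    have he6 : D.e ∣ 6 := D.e_dvd
    have hc27 : c ∣ 27 := by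
      have h864 : c ∣ 864 := by
        refine ⟨Nat.card (Sylow 7 G) * D.e, ?_⟩
        nlinarith [hn]
      have hc2 : Nat.Coprime c (2 ^ 5) := by
        refine Nat.Coprime.pow_right _ ((Nat.Prime.coprime_iff_not_dvd Nat.prime_two).mpr ?_).symm
        exact fun h => hodd (hc ▸ dvd_mul_of_dvd_right h 7)
      exact hc2.dvd_of_dvd_mul_right (n := 2 ^ 5) (by simpa using h864)
    have h1 : D.e = 2 ∨ D.e = 3 ∨ D.e = 6 := by
      have := Nat.le_of_dvd (by norm_num) he6
      interval_cases h : D.e <;> simp_all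
    have h2 : c = 1 ∨ c = 3 ∨ c = 9 ∨ c = 27 := by
      have := Nat.le_of_dvd (by norm_num) hc27
      interval_cases c <;> simp_all
    rcases h1 with e | e | e
    all_goals first
      | exact e
      | (exfalso; rcases h2 with rfl | rfl | rfl | rfl <;> rw [e] at hn <;> omega)
  -- the principal block
  obtain ⟨L, f, hlen, hL, ⟨θ, hθ, hθf, hθ1⟩, hsum⟩ := D.exists_signed hna ht hts
  rw [he3] at hlen
  obtain ⟨a, b, rfl⟩ := List.length_eq_two.mp hlen
  by_contra hno
  push Not at hno
  have hdeg : ∀ χ : Cfsg.IrrCharacter G, χ ≠ trivIrr G →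
      deg χ ∣ 6048 ∧ deg χ < 78 ∧ deg χ ≠ 1 ∧ ¬ 6 ∣ deg χ := fun χ hχ =>
    ⟨hcard ▸ BlocksChars.Degrees.charDegree_dvd_card χ,
      Nat.lt_of_not_le fun h78 => by
        have h := PrimeBlock.deg_sq_lt hχ
        rw [hcard] at h
        nlinarith,
      PrimeBlock.deg_ne_one hna hχ, hno χ⟩
  have key : ∀ n < 78, n ∣ 6048 → n ≠ 1 → ¬ 6 ∣ n →
      (n % 7 = 1 → n = 8) ∧ (n % 7 = 6 → n = 27) ∧ (n % 7 = 3 → n = 3) ∧
        (n % 7 = 4 → n = 4 ∨ n = 32) := by
    intro n hn
    interval_cases n <;> norm_num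
  have hz : ∀ z ∈ [a, b], z = 8 ∨ z = -27 := by
    intro z hz'
    obtain ⟨χ, hχ, hne, rfl⟩ := hL z hz'
    obtain ⟨h1, h2, h3, h4⟩ := hdeg χ hne
    obtain ⟨k1, k2, -, -⟩ := key _ h2 h1 h3 h4
    have hm := D.deg_X χ hχ
    unfold Int.ModEq at hm
    rcases D.sgn_eq χ hχ with s | s <;> rw [s] at hm ⊢
    · left
      rw [k1 (by omega)]
      norm_num
    · right
      rw [k2 (by omega)]
      norm_num
  have hf : D.ε * (f : ℤ) = 3 ∨ D.ε * (f : ℤ) = -4 ∨ D.ε * (f : ℤ) = -32 := by
    obtain ⟨h1, h2, h3, h4⟩ := hdeg θ hθ1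
    obtain ⟨-, -, k3, k4⟩ := key _ h2 h1 h3 h4
    have hm := D.deg_Y θ hθ
    rw [he3] at hm
    unfold Int.ModEq at hm
    rw [hθf] at k3 k4 hm
    rcases D.ε_eq with s | s <;> rw [s] at hm ⊢
    · left
      rw [k3 (by omega)]
      norm_num
    · right
      rcases k4 (by omega) with h | h <;> rw [h] <;> norm_num
  have ha := hz a (by simp)
  have hb := hz b (by simp)
  simp only [List.sum_cons, List.sum_nil] at hsum
  omega

end Cfsg.Agent.UnitaryDegrees
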