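import Cfsg.Agent.Lib.Characters.Normal
import Cfsg.Agent.Lib.Characters.Induction
import Cfsg.Agent.Lib.Characters.Kernel
import Cfsg.Agent.BlocksChars.Degrees
import Cfsg.Prelude.Def_DegreeGraph

/-!
# A solvable group of order 6048 with an irreducible character of degree 42
-/

set_option autoImplicit false
set_option linter.style.haveILetI false

namespace Cfsg.Agent.UnitaryDegrees.Witness

open Cfsg.Agent.Characters

/-- The elementary abelian group `2³ × 3²`, additively. -/
abbrev W : Type := (ZMod 2 × ZMod 2 × ZMod 2) × (ZMod 3 × ZMod 3)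

/-- An automorphism of order `7` on the first part and `6` on the second. -/
def act : W ≃+ W where
  toFun w := ((w.1.2.2, w.1.1 + w.1.2.2, w.1.2.1), (-w.2.1 + w.2.2, -w.2.2))
  invFun w := ((w.1.2.1 + w.1.1, w.1.2.2, w.1.1), (-w.2.1 - w.2.2, -w.2.2))
  left_inv := by decide
  right_inv := by decide
  map_add' a b := by
    ext <;> simp <;> ring

/-- The same automorphism, multiplicatively. -/
def A : MulAut (Multiplicative W) := AddEquiv.toMultiplicative act

theorem pow_A_apply (n : ℕ) (w : W) :
    (A ^ n) (Multiplicative.ofAdd w) = Multiplicative.ofAdd ((⇑act)^[n] w) := by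
  induction n generalizing w with
  | zero => rfl
  | succ n ih => rw [pow_succ, MulAut.mul_apply, Function.iterate_succ_apply]; exact ih (act w)

/-- A linear form with values in `ZMod 6`. -/
def form : W →+ ZMod 6 :=
  ((⟨⟨fun a : ZMod 2 => 3 * (a.val : ZMod 6), by decide⟩, by decide⟩ : ZMod 2 →+ ZMod 6).comp
      ((AddMonoidHom.fst _ _).comp (AddMonoidHom.fst _ _))) +
    ((⟨⟨fun a : ZMod 3 => 2 * (a.val : ZMod 6), by decide⟩, by decide⟩ : ZMod 3 →+ ZMod 6).comp
      ((AddMonoidHom.fst _ _).comp (AddMonoidHom.snd _ _)))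

theorem form_moved : ∀ n : Fin 42, (n : ℕ) ≠ 0 → ∃ w : W, form ((⇑act)^[(n : ℕ)] w) ≠ form w := by
  decide

set_option maxRecDepth 20000 in
theorem iterate_act : ∀ w : W, (⇑act)^[42] w = w := by decide

theorem pow_A_42 : A ^ 42 = 1 :=
  MulEquiv.ext fun v => by
    rw [← ofAdd_toAdd v, pow_A_apply, iterate_act]
    rfl

theorem orderOf_A : orderOf A = 42 := by
  refine (orderOf_eq_iff (by norm_num)).mpr ⟨pow_A_42, fun m hm hm0 h => ?_⟩
  obtain ⟨w, hw⟩ := form_moved ⟨m, hm⟩ (by simp; omega)
  have h' : (⇑act)^[m] w = w := by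
    have := pow_A_apply m w
    rw [h] at this
    exact Multiplicative.ofAdd.injective this.symm
  exact hw (by simp only; rw [h'])

/-- The cyclic group of order `42`. -/
abbrev C : Subgroup (MulAut (Multiplicative W)) := Subgroup.zpowers A

/-- The semidirect product of order `3024`. -/
abbrev H₀ : Type := Multiplicative W ⋊[C.subtype] C

/-- The solvable group of order `6048`. -/
abbrev H : Type := H₀ × Multiplicative (ZMod 2)

instance : Finite H₀ := Finite.of_equiv _ SemidirectProduct.equivProd.symm

theorem natCard_C : Nat.card C = 42 := by rw [Nat.card_zpowers, orderOf_A]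

theorem natCard_H : Nat.card H = 6048 := by
  rw [Nat.card_prod, SemidirectProduct.card, natCard_C]
  simp

theorem isSolvable_H₀ : Group.IsSolvable H₀ :=
  haveI : Group.IsSolvable (Multiplicative W) := Group.isSolvable_of_comm mul_comm
  haveI : Group.IsSolvable C := Group.isSolvable_of_comm fun a b => mul_comm' a b
  Group.isSolvable_of_ker_le_range (SemidirectProduct.inl : Multiplicative W →* H₀)
    SemidirectProduct.rightHom SemidirectProduct.range_inl_eq_ker_rightHom.ge

theorem isSolvable_H : Group.IsSolvable H :=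
  haveI := isSolvable_H₀
  haveI : Group.IsSolvable (Multiplicative (ZMod 2)) := Group.isSolvable_of_comm mul_comm
  inferInstance

/-- The abelian normal subgroup. -/
abbrev N : Subgroup H₀ := (SemidirectProduct.inl : Multiplicative W →* H₀).range

instance : N.Normal := by
  rw [N, SemidirectProduct.range_inl_eq_ker_rightHom]
  infer_instance

theorem right_eq_one (n : N) : (n : H₀).right = 1 := by
  obtain ⟨v, hv⟩ := n.2
  rw [← hv, SemidirectProduct.right_inl]

/-- A faithful enough linear character of `W`. -/
noncomputable def theta : Multiplicative W →* ℂˣ :=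
  ((ZMod.stdAddChar (N := 6)).compAddMonoidHom form).toMonoidHom.toHomUnits

theorem theta_inj {v w : W}
    (h : theta (Multiplicative.ofAdd v) = theta (Multiplicative.ofAdd w)) : form v = form w :=
  ZMod.injective_stdAddChar (congrArg Units.val h)

/-- The same character on the normal subgroup. -/
noncomputable def lam : N →* ℂˣ where
  toFun n := theta (n : H₀).left
  map_one' := map_one theta
  map_mul' a b := by
    rw [Subgroup.coe_mul, SemidirectProduct.mul_left, right_eq_one, map_one, MulAut.one_apply,
      map_mul]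

theorem conj_left (g : H₀) (v : Multiplicative W) :
    (g * SemidirectProduct.inl v * g⁻¹).left = (g.right : MulAut (Multiplicative W)) v := by
  simp [SemidirectProduct.mul_left, SemidirectProduct.inv_left, mul_comm, mul_left_comm]

theorem mem_of_fixed {g : H₀}
    (hg : conjFun N (fun n => (lam n : ℂ)) g = fun n => (lam n : ℂ)) : g ∈ N := by
  have hr : g.right = 1 := by
    obtain ⟨k, hk⟩ := mem_powers_iff_mem_zpowers.mpr g.right.2
    have hk' : A ^ (k % 42) = (g.right : MulAut (Multiplicative W)) := by
      rw [← orderOf_A, pow_mod_orderOf]; exact hk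
    by_cases h0 : k % 42 = 0
    · apply Subtype.ext
      rw [← hk', h0, pow_zero]
      rfl
    exfalso
    obtain ⟨w, hw⟩ := form_moved ⟨k % 42, Nat.mod_lt _ (by norm_num)⟩ h0
    refine hw (theta_inj ?_)
    have h := congrFun hg ⟨SemidirectProduct.inl (Multiplicative.ofAdd w), ⟨_, rfl⟩⟩
    simp only [conjFun, lam, MonoidHom.coe_mk, OneHom.coe_mk, conj_left, ← hk', pow_A_apply,
      SemidirectProduct.left_inl] at h
    exact Units.ext h
  refine ⟨g.left, SemidirectProduct.ext ?_ ?_⟩
  · simp
  · simp [hr]

theorem index_N : N.index = 42 := by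
  rw [N, SemidirectProduct.range_inl_eq_ker_rightHom, Subgroup.index_ker,
    MonoidHom.range_eq_top.mpr SemidirectProduct.rightHom_surjective, Subgroup.card_top, natCard_C]

theorem exists_degree_42 : 42 ∈ Cfsg.charDegrees H := by
  classical
  haveI := Fintype.ofFinite H₀
  haveI := Fintype.ofFinite N
  have hirr : Cfsg.IsIrrCharacter N (fun n => (lam n : ℂ)) := isIrrCharacter_linear lam
  have hnorm := card_mul_classInner_indFun N hirr
  have hst : Nat.card {g : H₀ // conjFun N (fun n => (lam n : ℂ)) g = fun n => (lam n : ℂ)}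
      = Nat.card N := by
    refine Nat.card_congr (Equiv.subtypeEquivRight fun g => ⟨mem_of_fixed, fun hg => ?_⟩)
    funext n
    simp only [conjFun]
    congr 2
    apply Subtype.ext
    obtain ⟨a, rfl⟩ := hg
    obtain ⟨b, hb⟩ := n.2
    show _ * (n : H₀) * _ = (n : H₀)
    rw [← hb, ← map_inv, ← map_mul, ← map_mul]
    congr 1
    exact mul_inv_cancel_comm _ _
  rw [hst] at hnorm
  have h1 : Cfsg.classInner (Cfsg.indFun N fun n => (lam n : ℂ))
      (Cfsg.indFun N fun n => (lam n : ℂ)) = 1 :=
    (mul_eq_left₀ (Nat.cast_ne_zero.mpr Nat.card_pos.ne')).mp hnorm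
  have hI : Cfsg.IsIrrCharacter H₀ (Cfsg.indFun N fun n => (lam n : ℂ)) :=
    isIrr_of_isCharacter_of_norm_one (isCharacter_indFun N (isCharacter_linear lam)) h1
  refine ⟨⟨_, isIrrCharacter_comp_surjective (MonoidHom.fst H₀ (Multiplicative (ZMod 2)))
    Prod.fst_surjective hI⟩, ?_⟩
  have hd := BlocksChars.Degrees.charDegree_cast (⟨_, hI⟩ : Cfsg.IrrCharacter H₀)
  change (_ : ℂ) = Cfsg.indFun N (fun n => (lam n : ℂ)) 1 at hd
  rw [indFun_one, index_N, map_one, Units.val_one, mul_one] at hd
  simp only [Cfsg.charDegree, Function.comp_apply, map_one]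
  exact_mod_cast hd

end Cfsg.Agent.UnitaryDegrees.Witness
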