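import Cfsg.Agent.Recognition.UnitaryDegrees.Degrees
import Cfsg.Agent.Recognition.UnitaryDegrees.SevenBlock
import Cfsg.Agent.Recognition.UnitaryDegrees.Witness
import Cfsg.Agent.SimpleFacts.UnitaryThreeInvolutions
import Cfsg.Agent.Lib.Classical.UnitarySimple
import Cfsg.Agent.Lib.Classical.UnitaryBasic
import Cfsg.Agent.Lib.Characters.Kernel
import Cfsg.Prelude.Def_DegreeGraph

/-!
# The degree graph of `PSU₃(3)` is that of a solvable group of the same order
-/

set_option autoImplicit false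
set_option linter.style.haveILetI false

namespace Cfsg.Agent.UnitaryDegrees

open Cfsg.Agent.Characters

universe u v

theorem degrees_subset {A : Type u} {B : Type v} [Group A] [Group B] (f : A →* B)
    (hf : Function.Surjective f) : Cfsg.charDegrees B ⊆ Cfsg.charDegrees A := by
  rintro d ⟨χ, rfl⟩
  exact ⟨⟨_, isIrrCharacter_comp_surjective f hf χ.2⟩, by simp [Cfsg.charDegree]⟩

theorem degrees_congr {A : Type u} {B : Type v} [Group A] [Group B] (e : A ≃* B) :
    Cfsg.charDegrees A = Cfsg.charDegrees B :=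
  Set.Subset.antisymm (degrees_subset e.symm.toMonoidHom e.symm.surjective)
    (degrees_subset e.toMonoidHom e.surjective)

theorem prime_cases {p : ℕ} (hp : p.Prime) (h : p ∣ 6048) : p = 2 ∨ p = 3 ∨ p = 7 := by
  rw [show 6048 = 2 ^ 5 * 3 ^ 3 * 7 by norm_num] at h
  rcases hp.dvd_mul.mp h with h | h
  · rcases hp.dvd_mul.mp h with h | h
    · exact Or.inl ((Nat.prime_dvd_prime_iff_eq hp Nat.prime_two).mp (hp.dvd_of_dvd_pow h))
    · exact Or.inr (Or.inl ((Nat.prime_dvd_prime_iff_eq hp Nat.prime_three).mp (hp.dvd_of_dvd_pow h)))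
  · exact Or.inr (Or.inr ((Nat.prime_dvd_prime_iff_eq hp (by norm_num)).mp h))

/-- Every pair of distinct primes among `2, 3, 7` divides some degree. -/
def AllPairs (D : Set ℕ) : Prop :=
  (∃ d ∈ D, 2 * 3 ∣ d) ∧ (∃ d ∈ D, 2 * 7 ∣ d) ∧ ∃ d ∈ D, 3 * 7 ∣ d

theorem degree_dvd {G : Type u} [Group G] [Finite G] {d : ℕ} (hd : d ∈ Cfsg.charDegrees G) :
    d ∣ Nat.card G := by
  haveI := Fintype.ofFinite G
  obtain ⟨χ, rfl⟩ := hd
  exact BlocksChars.Degrees.charDegree_dvd_card χ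

theorem degreePrimes_eq {G : Type u} [Group G] [Finite G] (hc : Nat.card G = 6048)
    (h : AllPairs (Cfsg.charDegrees G)) : Cfsg.degreePrimes G = {2, 3, 7} := by
  obtain ⟨⟨a, ha, ha'⟩, ⟨b, hb, hb'⟩, -⟩ := h
  ext p
  simp only [Set.mem_insert_iff, Set.mem_singleton_iff]
  constructor
  · rintro ⟨hp, d, hd, hpd⟩
    exact prime_cases hp (hc ▸ hpd.trans (degree_dvd hd))
  · rintro (rfl | rfl | rfl)
    · exact ⟨Nat.prime_two, a, ha, (dvd_mul_right 2 3).trans ha'⟩
    · exact ⟨Nat.prime_three, a, ha, (dvd_mul_left 3 2).trans ha'⟩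
    · exact ⟨by norm_num, b, hb, (dvd_mul_left 7 2).trans hb'⟩

theorem adj_iff {G : Type u} [Group G] [Finite G] (hc : Nat.card G = 6048)
    (h : AllPairs (Cfsg.charDegrees G)) (p q : ℕ) :
    (Cfsg.degreeGraph G).Adj p q ↔
      p ≠ q ∧ p.Prime ∧ q.Prime ∧ p ∣ 6048 ∧ q ∣ 6048 := by
  constructor
  · rintro ⟨hne, hp, hq, d, hd, hdd⟩
    have h6 : d ∣ 6048 := hc ▸ degree_dvd hd
    exact ⟨hne, hp, hq, ((dvd_mul_right p q).trans hdd).trans h6,
      ((dvd_mul_left q p).trans hdd).trans h6⟩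
  · rintro ⟨hne, hp, hq, hp6, hq6⟩
    refine ⟨hne, hp, hq, ?_⟩
    obtain ⟨h23, h27, h37⟩ := h
    rcases prime_cases hp hp6 with rfl | rfl | rfl <;> rcases prime_cases hq hq6 with rfl | rfl | rfl
    all_goals first
      | exact absurd rfl hne
      | exact h23
      | exact h27
      | exact h37

theorem degreeGraph_eq {G : Type u} {K : Type v} [Group G] [Finite G] [Group K] [Finite K]
    (hG : Nat.card G = 6048) (hK : Nat.card K = 6048) (h : AllPairs (Cfsg.charDegrees G))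
    (h' : AllPairs (Cfsg.charDegrees K)) : Cfsg.degreeGraph G = Cfsg.degreeGraph K := by
  ext p q
  rw [adj_iff hG h, adj_iff hK h']

theorem witness_allPairs : AllPairs (Cfsg.charDegrees Witness.H) :=
  ⟨⟨42, Witness.exists_degree_42, by norm_num⟩, ⟨42, Witness.exists_degree_42, by norm_num⟩,
    ⟨42, Witness.exists_degree_42, by norm_num⟩⟩

variable {F : Type u} [Field F] [Fintype F]

theorem exists_equiv_PSU (hF : Fintype.card F = 3 ^ 2) :
    Nonempty (Cfsg.SU 3 F 3 ≃* Cfsg.PSU 3 F 3) := by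
  have hz : Subgroup.center (Cfsg.SU 3 F 3) = ⊥ :=
    Subgroup.card_eq_one.mp (by rw [Classical.Unitary.natCard_center hF (by norm_num)]; norm_num)
  exact ⟨(QuotientGroup.quotientBot).symm.trans (QuotientGroup.quotientMulEquivOfEq hz.symm)⟩

theorem allPairs_SU (hF : Fintype.card F = 3 ^ 2) :
    AllPairs (Cfsg.charDegrees (Cfsg.SU 3 F 3)) := by
  classical
  haveI := Fintype.ofFinite (Cfsg.SU 3 F 3)
  obtain ⟨e⟩ := exists_equiv_PSU hF
  haveI := Classical.Unitary.isSimpleGroup_PSU hF (n := 3) le_rfl (by norm_num)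
  haveI : IsSimpleGroup (Cfsg.SU 3 F 3) := e.isSimpleGroup
  have hna : ¬ IsMulCommutative (Cfsg.SU 3 F 3) := fun hcm => by
    haveI := hcm
    letI : CommGroup (Cfsg.SU 3 F 3) := { mul_comm := hcm.is_comm.comm }
    have hp : (Nat.card (Cfsg.SU 3 F 3)).Prime := IsSimpleGroup.prime_card
    rw [natCard_SU hF] at hp
    norm_num at hp
  obtain ⟨φ, hφ⟩ := exists_faithful hF
  obtain ⟨d⟩ := exists_frame hF
  obtain ⟨χ₁, h₁⟩ := exists_deg_six hna (natCard_SU hF) fun t ht ht2 => by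
    rw [SimpleFacts.UnitaryThreeInvolutions.card_centralizer (by decide) hF ht ht2]
    norm_num
  obtain ⟨χ₂, h₂⟩ := exists_degree_28 hF d hφ
  obtain ⟨χ₃, h₃⟩ := exists_degree_21 hF d hφ hna
  exact ⟨⟨_, ⟨χ₁, rfl⟩, h₁⟩, ⟨28, ⟨χ₂, h₂⟩, by norm_num⟩, ⟨21, ⟨χ₃, h₃⟩, by norm_num⟩⟩

theorem solvable_same_graph (hF : Fintype.card F = 9) :
    ∃ (H : Type) (_ : Group H) (_ : Fintype H), Group.IsSolvable H ∧ Nat.card H = 6048 ∧
      Cfsg.degreePrimes H = Cfsg.degreePrimes (Cfsg.PSU 3 F 3) ∧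
      Cfsg.degreeGraph H = Cfsg.degreeGraph (Cfsg.PSU 3 F 3) := by
  have hF' : Fintype.card F = 3 ^ 2 := by rw [hF]; norm_num
  obtain ⟨e⟩ := exists_equiv_PSU hF'
  have hc : Nat.card (Cfsg.PSU 3 F 3) = 6048 := by rw [← Nat.card_congr e.toEquiv, natCard_SU hF']
  have hp : AllPairs (Cfsg.charDegrees (Cfsg.PSU 3 F 3)) := degrees_congr e ▸ allPairs_SU hF'
  refine ⟨Witness.H, inferInstance, Fintype.ofFinite _, Witness.isSolvable_H, Witness.natCard_H,
    ?_, degreeGraph_eq Witness.natCard_H hc witness_allPairs hp⟩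
  rw [degreePrimes_eq Witness.natCard_H witness_allPairs, degreePrimes_eq hc hp]

end Cfsg.Agent.UnitaryDegrees
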